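import Groth.Prelude.Def_NonAbH1

/-!
# The boundary of a section of a quotient sheaf of a sheaf of groups
-/

set_option autoImplicit false

universe w v u

open CategoryTheory Opposite

namespace Groth.Agent.NonAbBdryLib

open NonAbH1 NonAbH1.GSheaf

variable {C : Type u} [Category.{v} C] {J : GrothendieckTopology C}

theorem sheaf_ext (P : Sheaf J (Type w)) {U : C} {S : Sieve U} (hS : S ∈ J U) {x y : P.obj.obj (op U)}
    (h : ∀ ⦃V : C⦄ (a : V ⟶ U), S a → P.obj.map a.op x = P.obj.map a.op y) : x = y :=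
  (((isSheaf_iff_isSheaf_of_type _ _).1 P.property) S hS).isSeparatedFor.ext h

theorem sections_of_local {F : Sheaf J GrpCat.{w}} (T : GSheaf F) (hT : T.LocallyNonempty)
    (P : Sheaf J (Type w)) (x : ∀ V : C, T.P.obj.obj (op V) → P.obj.obj (op V))
    (nat : ∀ (V W : C) (a : W ⟶ V) (t), P.obj.map a.op (x V t) = x W (T.P.obj.map a.op t))
    (indep : ∀ (V : C) (t t'), x V t = x V t') :
    ∃ c : P.obj.sections, ∀ (V : C) (t), c.1 (op V) = x V t := by
  classical
  let S : ∀ U : C, Sieve U := fun U =>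
    { arrows := fun V _ => Nonempty (T.P.obj.obj (op V))
      downward_closed := fun {V W _} h a => ⟨T.P.obj.map a.op h.some⟩ }
  have hS : ∀ U, S U ∈ J U := fun U => by
    obtain ⟨R, hR, hR'⟩ := hT U
    exact J.superset_covering (fun V a ha => hR' a ha) hR
  have hP := (isSheaf_iff_isSheaf_of_type _ _).1 P.property
  let fam : ∀ U : C, Presieve.FamilyOfElements P.obj (S U).arrows := fun U V _ h => x V h.some
  have hfam : ∀ U, (fam U).Compatible := fun U V₁ V₂ W a₁ a₂ f₁ f₂ h₁ h₂ _ => by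
    simp only [fam]
    rw [nat, nat]
    exact indep _ _ _
  let c : ∀ U : C, P.obj.obj (op U) := fun U => (hP _ (hS U)).amalgamate (fam U) (hfam U)
  have hc : ∀ (U V : C) (a : V ⟶ U) (t), P.obj.map a.op (c U) = x V t := fun U V a t =>
    ((hP _ (hS U)).valid_glue (hfam U) a ⟨t⟩).trans (indep _ _ _)
  have hnat : ∀ (U V : C) (a : V ⟶ U), P.obj.map a.op (c U) = c V := fun U V a => by
    refine sheaf_ext P (hS V) fun W b hb => ?_
    obtain ⟨t⟩ := hb
    rw [hc V W b t, ← hc U W (b ≫ a) t, op_comp, Functor.map_comp]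
    rfl
  refine ⟨⟨fun U => c U.unop, fun {U V} a => hnat U.unop V.unop a.unop⟩, fun V t => ?_⟩
  show c V = x V t
  simpa using hc V V (𝟙 V) t

variable [J.HasSheafCompose (forget GrpCat.{w})] {F G : Sheaf J GrpCat.{w}} (u : F ⟶ G)
  {Q : GSheaf G} (π : GSheaf.trivial G ⟶ Q)

theorem pi_nat {U V : Cᵒᵖ} (a : U ⟶ V) (g : G.obj.obj U) :
    Q.P.obj.map a (π.hom.hom.app U (ofGrp g)) = π.hom.hom.app V (ofGrp (G.obj.map a g)) :=
  (NatTrans.naturality_apply π.hom.hom a (ofGrp g)).symm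

theorem pi_smul {U : Cᵒᵖ} (a g : G.obj.obj U) :
    π.hom.hom.app U (ofGrp (a * g)) = Q.smul a (π.hom.hom.app U (ofGrp g)) :=
  π.map_smul a (ofGrp g)

theorem isTorsor_of_isFibreOver (hu : ∀ U : Cᵒᵖ, Function.Injective (u.hom.app U))
    (hQ : IsQuotientBy u π) (c : Q.P.obj.sections) (T : GSheaf F) (hT : IsFibreOver u π c T) : T.IsTorsor := by
  obtain ⟨ι, hι, himg, heq⟩ := hT
  refine ⟨fun U p q => ?_, fun U => ?_⟩
  · have hp := (himg U _).1 ⟨p, rfl⟩
    have hq := (himg U _).1 ⟨q, rfl⟩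
    obtain ⟨f, hf⟩ := (hQ.1 U _ _).1 (hp.trans hq.symm)
    refine ⟨f⁻¹, hι U ?_, fun f' hf' => hu U ?_⟩
    · show toGrp (ι.hom.app U (T.smul f⁻¹ p)) = toGrp (ι.hom.app U q)
      rw [heq, map_inv, inv_inv, hf]
    · have h := heq U f' p
      rw [hf', hf, mul_right_inj] at h
      rw [map_inv, h, inv_inv]
  · obtain ⟨S, hS, hS'⟩ := hQ.2 U (c.1 (op U))
    refine ⟨S, hS, fun V a ha => ?_⟩
    obtain ⟨g, hg⟩ := hS' a ha
    exact ⟨((himg (op V) g).2 (hg.trans (c.2 a.op))).choose⟩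

theorem exists_hom_of_translate (c c' : Q.P.obj.sections) (T T' : GSheaf F)
    (hT : IsFibreOver u π c T) (hT' : IsFibreOver u π c' T') (g : (uSh G).obj.sections)
    (hg : ∀ U, Q.smul (toGrp (g.1 U)) (c.1 U) = c'.1 U) : ∃ e : T ⟶ T',
      ∀ U, Function.Bijective (e.hom.hom.app U) := by
  obtain ⟨ι, hι, himg, heq⟩ := hT
  obtain ⟨ι', hι', himg', heq'⟩ := hT'
  have hex : ∀ (U : Cᵒᵖ) (t : T.P.obj.obj U),
      ∃ t', toGrp (ι'.hom.app U t') = toGrp (g.1 U) * toGrp (ι.hom.app U t) := fun U t => by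
    rw [himg', pi_smul, (himg U _).1 ⟨t, rfl⟩, hg]
  choose e he using hex
  refine ⟨⟨⟨{ app := fun U => ↾ (e U), naturality := fun U V a => ?_ }⟩, fun {U} f t => ?_⟩, fun U => ?_⟩
  · ext t
    apply hι' V
    show toGrp (ι'.hom.app V (e V (T.P.obj.map a t))) = toGrp (ι'.hom.app V (T'.P.obj.map a (e U t)))
    rw [he, show ι'.hom.app V (T'.P.obj.map a (e U t)) = (uSh G).obj.map a (ι'.hom.app U (e U t)) from
      NatTrans.naturality_apply ι'.hom a _]
    show _ = G.obj.map a (toGrp (ι'.hom.app U (e U t)))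
    rw [he, map_mul, show ι.hom.app V (T.P.obj.map a t) = (uSh G).obj.map a (ι.hom.app U t) from
      NatTrans.naturality_apply ι.hom a _, ← g.2 a]
    rfl
  · apply hι' U
    show toGrp (ι'.hom.app U (e U (T.smul f t))) = toGrp (ι'.hom.app U (T'.smul f (e U t)))
    rw [he, heq, heq', he, mul_assoc]
  · refine ⟨fun t₁ t₂ h => hι U ?_, fun t' => ?_⟩
    · have h' := congrArg (fun x => toGrp (ι'.hom.app U x)) h
      change toGrp (ι'.hom.app U (e U t₁)) = toGrp (ι'.hom.app U (e U t₂)) at h'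
      rw [he, he, mul_right_inj] at h'
      exact h'
    · have hx : π.hom.hom.app U (ofGrp ((toGrp (g.1 U))⁻¹ * toGrp (ι'.hom.app U t'))) = c.1 U := by
        rw [pi_smul, (himg' U _).1 ⟨t', rfl⟩, ← hg, ← Q.mul_smul, inv_mul_cancel, Q.one_smul]
      obtain ⟨t, ht⟩ := (himg U _).2 hx
      refine ⟨t, hι' U ?_⟩
      show toGrp (ι'.hom.app U (e U t)) = toGrp (ι'.hom.app U t')
      rw [he, ht, mul_inv_cancel_left]

theorem nonempty_iso_of_bijective {T T' : GSheaf F} (e : T ⟶ T') (he : ∀ U, Function.Bijective (e.hom.hom.app U)) :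
    Nonempty (T ≅ T') := by
  let inv : ∀ U, T'.P.obj.obj U → T.P.obj.obj U := fun U => (Equiv.ofBijective _ (he U)).symm
  have hinv : ∀ U t, e.hom.hom.app U (inv U t) = t := fun U t => Equiv.ofBijective_apply_symm_apply _ (he U) t
  let e' : T' ⟶ T :=
    { hom := ⟨{ app := fun U => ↾ (inv U)
                naturality := fun U V a => by
                  ext t
                  apply (he V).1
                  show e.hom.hom.app V (inv V (T'.P.obj.map a t)) = e.hom.hom.app V (T.P.obj.map a (inv U t))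
                  rw [hinv, NatTrans.naturality_apply e.hom.hom a, hinv] }⟩
      map_smul := fun {U} f t => by
        apply (he U).1
        show e.hom.hom.app U (inv U (T'.smul f t)) = e.hom.hom.app U (T.smul f (inv U t))
        rw [hinv, e.map_smul, hinv] }
  exact ⟨⟨e, e', by ext U t; exact Equiv.ofBijective_symm_apply_apply _ (he U) t, by ext U t; exact hinv U t⟩⟩

theorem exists_fibre (hu : ∀ U : Cᵒᵖ, Function.Injective (u.hom.app U))
    (hQ : IsQuotientBy u π) (c : Q.P.obj.sections) :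
    ∃ T : Torsor F, IsFibreOver u π c T.toGSheaf := by
  let M : ∀ U : Cᵒᵖ, Set ((uSh G).obj.obj U) := fun U => {g | π.hom.hom.app U g = c.1 U}
  have hM : ∀ {U V : Cᵒᵖ} (a : U ⟶ V) (g), g ∈ M U → (uSh G).obj.map a g ∈ M V := fun {U V} a g hg => by
    show π.hom.hom.app V ((uSh G).obj.map a g) = _
    refine (NatTrans.naturality_apply π.hom.hom a g).trans ?_
    rw [show π.hom.hom.app U g = c.1 U from hg]
    exact c.2 a
  let P₀ : Cᵒᵖ ⥤ Type w :=
    { obj := fun U => M U
      map := fun {U V} a => ↾ fun g => ⟨(uSh G).obj.map a g.1, hM a g.1 g.2⟩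
      map_id := fun U => by ext g; simp
      map_comp := fun a b => by ext g; simp }
  have hP₀ : Presheaf.IsSheaf J P₀ := by
    rw [isSheaf_iff_isSheaf_of_type]
    intro U S hS x hx
    have hG := (isSheaf_iff_isSheaf_of_type _ _).1 (uSh G).property S hS
    let x' : Presieve.FamilyOfElements (uSh G).obj S.arrows := fun V a ha => (x a ha).1
    have hx' : x'.Compatible := fun V₁ V₂ W a₁ a₂ f₁ f₂ h₁ h₂ e => congrArg Subtype.val (hx a₁ a₂ h₁ h₂ e)
    refine ⟨⟨hG.amalgamate x' hx', ?_⟩, fun V a ha => Subtype.ext (hG.valid_glue hx' a ha), fun y hy => ?_⟩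
    · refine sheaf_ext Q.P hS fun V a ha => ?_
      rw [c.2 a.op]
      refine (NatTrans.naturality_apply π.hom.hom a.op _).symm.trans ?_
      refine (congrArg (π.hom.hom.app (op V)) (hG.valid_glue hx' a ha)).trans ?_
      exact (x a ha).2
    · exact Subtype.ext (hG.isSeparatedFor.ext fun V a ha =>
        (congrArg Subtype.val (hy a ha)).trans (hG.valid_glue hx' a ha).symm)
  have hsm : ∀ {U : Cᵒᵖ} (f : F.obj.obj U) (g : M U), ofGrp (toGrp g.1 * (u.hom.app U f)⁻¹) ∈ M U := fun {U} f g => by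
    show π.hom.hom.app U _ = _
    rw [← g.2]
    exact ((hQ.1 U _ _).2 ⟨f⁻¹, by rw [map_inv]⟩).symm
  let T : GSheaf F :=
    { P := ⟨P₀, hP₀⟩
      smul := fun f g => ⟨ofGrp (toGrp g.1 * (u.hom.app _ f)⁻¹), hsm f g⟩
      one_smul := fun g => Subtype.ext (show toGrp g.1 * _ = toGrp g.1 by rw [map_one, inv_one, mul_one])
      mul_smul := fun f f' g => Subtype.ext (show toGrp g.1 * _ = toGrp g.1 * _ * _ by
        rw [map_mul, mul_inv_rev, mul_assoc])
      map_smul := fun {U V} a f g => Subtype.ext (by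
        show G.obj.map a (toGrp g.1 * (u.hom.app U f)⁻¹) = G.obj.map a (toGrp g.1) * (u.hom.app V (F.obj.map a f))⁻¹
        rw [map_mul, map_inv, NatTrans.naturality_apply u.hom a]) }
  have hT : IsFibreOver u π c T := ⟨⟨{ app := fun U => ↾ Subtype.val, naturality := fun U V a => rfl }⟩,
    fun U => Subtype.val_injective, fun U g => ⟨fun h => by obtain ⟨t, rfl⟩ := h; exact t.2, fun h => ⟨⟨g, h⟩, rfl⟩⟩, fun U f t => rfl⟩
  exact ⟨⟨T, isTorsor_of_isFibreOver u π hu hQ c T hT⟩, hT⟩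

theorem pushforward_iff (hu : ∀ U : Cᵒᵖ, Function.Injective (u.hom.app U))
    (hQ : IsQuotientBy u π) (T : Torsor F) :
    IsPushforwardAlong u T.toGSheaf (GSheaf.trivial G) ↔
      ∃ c : Q.P.obj.sections, IsFibreOver u π c T.toGSheaf := by
  constructor
  · rintro ⟨f, hf⟩
    let ι : ∀ U : Cᵒᵖ, T.P.obj.obj U → G.obj.obj U := fun U t => (toGrp (f.hom.app U t))⁻¹
    have hnat : ∀ {U V : Cᵒᵖ} (a : U ⟶ V) (t), ι V (T.P.obj.map a t) = G.obj.map a (ι U t) := fun {U V} a t => by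
      show (toGrp (f.hom.app V (T.P.obj.map a t)))⁻¹ = G.obj.map a (toGrp (f.hom.app U t))⁻¹
      rw [map_inv, NatTrans.naturality_apply f.hom a t]
      rfl
    have heq : ∀ (U : Cᵒᵖ) (x : F.obj.obj U) (t : T.P.obj.obj U),
        ι U (T.smul x t) = ι U t * (u.hom.app U x)⁻¹ := fun U x t => by
      show (toGrp (f.hom.app U (T.smul x t)))⁻¹ = _
      rw [hf]
      exact mul_inv_rev _ _
    have hindep : ∀ (V : C) (t t' : T.P.obj.obj (op V)),
        π.hom.hom.app (op V) (ofGrp (ι _ t)) = π.hom.hom.app (op V) (ofGrp (ι _ t')) := fun V t t' => by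
      obtain ⟨x, rfl, -⟩ := T.isTorsor.1 (op V) t t'
      exact (hQ.1 _ _ _).2 ⟨x⁻¹, by rw [heq, map_inv]⟩
    obtain ⟨c, hc⟩ := sections_of_local T.toGSheaf T.isTorsor.2 Q.P (fun V t => π.hom.hom.app (op V) (ofGrp (ι _ t)))
      (fun V W a t => by rw [pi_nat π a.op, hnat]) hindep
    have hιinj : ∀ U : Cᵒᵖ, Function.Injective (ι U) := fun U t t' h => by
      obtain ⟨x, hx, -⟩ := T.isTorsor.1 U t t'
      rw [← hx, heq] at h
      have hx1 : x = 1 := hu U (by rw [map_one]; exact inv_eq_one.1 (mul_eq_left.1 h.symm))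
      rw [← hx, hx1, T.one_smul]
    refine ⟨c, ⟨{ app := fun U => ↾ fun t => ofGrp (ι U t), naturality := fun U V a => ?_ }⟩,
      fun U t t' h => hιinj U h, fun U g => ⟨?_, fun hg => ?_⟩, fun U x t => heq U x t⟩
    · ext t; exact hnat a t
    · rintro ⟨t, rfl⟩
      exact (hc U.unop t).symm
    · obtain ⟨S, hS, hS'⟩ := T.isTorsor.2 U.unop
      have hloc : ∀ ⦃V : C⦄ (a : V ⟶ U.unop), S a → ∃ t, ι (op V) t = G.obj.map a.op g := fun V a ha => by
        obtain ⟨t⟩ := hS' a ha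
        have : π.hom.hom.app (op V) (ofGrp (ι _ t)) = π.hom.hom.app (op V) (ofGrp (G.obj.map a.op g)) := by
          rw [← hc V t, ← pi_nat π a.op, hg]
          exact (c.2 a.op).symm
        obtain ⟨x, hx⟩ := (hQ.1 _ _ _).1 this
        exact ⟨T.smul x⁻¹ t, by rw [heq, hx, map_inv, inv_inv]⟩
      have hTs := (isSheaf_iff_isSheaf_of_type _ _).1 T.P.property S hS
      let fam : Presieve.FamilyOfElements T.P.obj S.arrows := fun V a ha => (hloc a ha).choose
      have hfam : fam.Compatible := fun V₁ V₂ W a₁ a₂ f₁ f₂ h₁ h₂ e => by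
        apply hιinj
        rw [hnat, hnat, (hloc f₁ h₁).choose_spec, (hloc f₂ h₂).choose_spec, ← ConcreteCategory.comp_apply,
          ← ConcreteCategory.comp_apply, ← Functor.map_comp, ← Functor.map_comp, ← op_comp, ← op_comp, e]
      refine ⟨hTs.amalgamate fam hfam, ?_⟩
      refine sheaf_ext (uSh G) hS fun V a ha => ?_
      show G.obj.map a.op (ι U _) = G.obj.map a.op g
      rw [← hnat]
      exact (congrArg (ι (op V)) (hTs.valid_glue hfam a ha)).trans (hloc a ha).choose_spec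
  · rintro ⟨c, ι, hι, -, heq⟩
    refine ⟨⟨{ app := fun U => ↾ fun t => ofGrp (toGrp (ι.hom.app U t))⁻¹, naturality := fun U V a => ?_ }⟩, fun U x t => ?_⟩
    · ext t
      show (toGrp (ι.hom.app V (T.P.obj.map a t)))⁻¹ = G.obj.map a (toGrp (ι.hom.app U t))⁻¹
      rw [map_inv, NatTrans.naturality_apply ι.hom a t]
      rfl
    · show (toGrp (ι.hom.app U (T.smul x t)))⁻¹ = u.hom.app U x * (toGrp (ι.hom.app U t))⁻¹
      rw [heq, mul_inv_rev, inv_inv]

theorem iso_iff (hu : ∀ U : Cᵒᵖ, Function.Injective (u.hom.app U)) (hQ : IsQuotientBy u π)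
    (c c' : Q.P.obj.sections) (T T' : GSheaf F) (hT : IsFibreOver u π c T) (hT' : IsFibreOver u π c' T') :
    Nonempty (T ≅ T') ↔ ∃ g : (uSh G).obj.sections, ∀ U, Q.smul (toGrp (g.1 U)) (c.1 U) = c'.1 U := by
  constructor
  · rintro ⟨e⟩
    have htor := isTorsor_of_isFibreOver u π hu hQ c T hT
    obtain ⟨ι, hι, himg, heq⟩ := hT
    obtain ⟨ι', hι', himg', heq'⟩ := hT'
    obtain ⟨g, hg⟩ := sections_of_local T htor.2 (uSh G)
      (fun V t => ofGrp (toGrp (ι'.hom.app (op V) (e.hom.hom.hom.app (op V) t)) * (toGrp (ι.hom.app (op V) t))⁻¹))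
      (fun V W a t => by
        show G.obj.map a.op (_ * _) = _ * _
        rw [map_mul, map_inv, NatTrans.naturality_apply e.hom.hom.hom a.op t,
          NatTrans.naturality_apply ι'.hom a.op, NatTrans.naturality_apply ι.hom a.op]
        rfl)
      (fun V t t' => by
        obtain ⟨x, rfl, -⟩ := htor.1 (op V) t t'
        show toGrp _ * _ = toGrp _ * _
        rw [e.hom.map_smul, heq, heq', mul_inv_rev, inv_inv]
        have key : ∀ a b c : G.obj.obj (op V), a * b = a * c⁻¹ * (c * b) := fun a b c => by rw [mul_assoc a, inv_mul_cancel_left]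
        exact key _ _ _)

    refine ⟨g, fun U => ?_⟩
    obtain ⟨S, hS, hS'⟩ := htor.2 U.unop
    refine sheaf_ext Q.P hS fun V a ha => ?_
    obtain ⟨t⟩ := hS' a ha
    rw [Q.map_smul, show G.obj.map a.op (toGrp (g.1 U)) = toGrp (g.1 (op V)) from g.2 a.op, c.2 a.op, c'.2 a.op,
      hg V t, ← (himg (op V) _).1 ⟨t, rfl⟩, ← pi_smul]
    show π.hom.hom.app (op V) (ofGrp (_ * _ * _)) = _
    rw [inv_mul_cancel_right]
    exact (himg' (op V) _).1 ⟨_, rfl⟩
  · rintro ⟨g, hg⟩
    obtain ⟨e, he⟩ := exists_hom_of_translate u π c c' T T' hT hT' g hg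
    exact nonempty_iso_of_bijective e he

theorem boundary (hu : ∀ U : Cᵒᵖ, Function.Injective (u.hom.app U)) (hQ : IsQuotientBy u π)
    (c : Q.P.obj.sections) :
    (∃ T : Torsor F, IsFibreOver u π c T.toGSheaf) ∧
      (∀ T : GSheaf F, IsFibreOver u π c T → T.IsTorsor) ∧
      ∀ T T' : GSheaf F, IsFibreOver u π c T → IsFibreOver u π c T' → Nonempty (T ≅ T') := by
  refine ⟨exists_fibre u π hu hQ c, fun T h => isTorsor_of_isFibreOver u π hu hQ c T h, fun T T' h h' =>
    (iso_iff u π hu hQ c c T T' h h').2 ⟨⟨fun U => ofGrp (1 : G.obj.obj U), fun {U V} a => map_one (G.obj.map a).hom⟩,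
      fun U => ?_⟩⟩
  exact Q.one_smul _

end Groth.Agent.NonAbBdryLib
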