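import Groth.Agent.NonAbBdryLib.Main

/-!
# The boundary is trivial exactly when the section lifts
-/

set_option autoImplicit false

universe w v u

open CategoryTheory Opposite

namespace Groth.Agent.NonAbBdryLib

open NonAbH1 NonAbH1.GSheaf

variable {C : Type u} [Category.{v} C] {J : GrothendieckTopology C}
variable [J.HasSheafCompose (forget GrpCat.{w})]

theorem cl_eq_one_iff {F : Sheaf J GrpCat.{w}} (T : Torsor F) :
    T.cl = 1 ↔ Nonempty (T.toGSheaf ≅ GSheaf.trivial F) := by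
  constructor
  · intro h
    have heqv : Equivalence fun P Q : Torsor F => Nonempty (P.toGSheaf ≅ Q.toGSheaf) :=
      ⟨fun P => ⟨Iso.refl _⟩, fun ⟨e⟩ => ⟨e.symm⟩, fun ⟨e⟩ ⟨e'⟩ => ⟨e ≪≫ e'⟩⟩
    exact heqv.eqvGen_iff.1 (Quot.eqvGen_exact h)
  · intro h
    exact Quot.sound (b := trivialTorsor F) h

theorem cl_eq_one_iff_lifts {F G : Sheaf J GrpCat.{w}} (u : F ⟶ G) {Q : GSheaf G} (π : GSheaf.trivial G ⟶ Q)
    (c : Q.P.obj.sections) (T : Torsor F) (hT : IsFibreOver u π c T.toGSheaf) :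
    T.cl = 1 ↔ ∃ g : (uSh G).obj.sections, ∀ U, π.hom.hom.app U (g.1 U) = c.1 U := by
  obtain ⟨ι, hι, himg, heq⟩ := hT
  rw [cl_eq_one_iff]
  constructor
  · rintro ⟨e⟩
    refine ⟨⟨fun U => ι.hom.app U (e.inv.hom.hom.app U (ofGrp (1 : F.obj.obj U))), fun {U V} a => ?_⟩,
      fun U => (himg U _).1 ⟨_, rfl⟩⟩
    refine (NatTrans.naturality_apply ι.hom a _).symm.trans (congrArg (ι.hom.app V) ?_)
    refine (NatTrans.naturality_apply e.inv.hom.hom a _).symm.trans (congrArg (e.inv.hom.hom.app V) ?_)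
    exact map_one (F.obj.map a).hom
  · rintro ⟨g, hg⟩
    choose t ht using fun U : Cᵒᵖ => (himg U (toGrp (g.1 U))).2 (hg U)
    have htn : ∀ {U V : Cᵒᵖ} (a : U ⟶ V), T.P.obj.map a (t U) = t V := fun {U V} a => by
      apply hι V
      rw [NatTrans.naturality_apply ι.hom a (t U)]
      show G.obj.map a (toGrp (ι.hom.app U (t U))) = toGrp (ι.hom.app V (t V))
      rw [ht, ht]
      exact g.2 a
    let e : GSheaf.trivial F ⟶ T.toGSheaf :=
      { hom := ⟨{ app := fun U => ↾ fun x => T.smul (toGrp x) (t U)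
                  naturality := fun U V a => by
                    ext x
                    show T.smul (F.obj.map a (toGrp x)) (t V) = T.P.obj.map a (T.smul (toGrp x) (t U))
                    rw [T.map_smul, htn] }⟩
        map_smul := fun {U} x y => T.mul_smul x (toGrp y) (t U) }
    obtain ⟨i⟩ := nonempty_iso_of_bijective e fun U => by
      refine ⟨fun x y h => ?_, fun s => ?_⟩
      · exact (T.isTorsor.1 U (t U) (T.smul (toGrp x) (t U))).unique rfl h.symm
      · obtain ⟨x, hx, -⟩ := T.isTorsor.1 U (t U) s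
        exact ⟨ofGrp x, hx⟩
    exact ⟨i.symm⟩

end Groth.Agent.NonAbBdryLib
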